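import Cfsg.Agent.LY.Sec
import Cfsg.Agent.LyR.T0

/-! # Tools for the columns of the principal 2-block -/

set_option autoImplicit false
set_option linter.unusedSectionVars false

namespace Cfsg.Agent.LY

open Cfsg Cfsg.Agent.Char Cfsg.Agent.GT Cfsg.Agent.BS Cfsg.Agent.LyR Subgroup
open scoped ComplexConjugate

universe u v

variable {G : Type u} [Group G] [Fintype G] {t : G}

theorem exists_sec {y : G} (h : IsConj t (constt {2} y)) :
    ∃ (c : G) (w : C1[t]), Odd (orderOf w) ∧ y = c * (t * w) * c⁻¹ := by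
  obtain ⟨c, hc⟩ := isConj_iff.1 h
  refine ⟨c, ⟨c⁻¹ * constt {2}ᶜ y * c, mem_cent1.2 ?_⟩, ?_, ?_⟩
  · have := (commute_constt_constt {2} {2}ᶜ y).eq
    rw [← hc] at this
    calc c⁻¹ * constt {2}ᶜ y * c * t = c⁻¹ * (constt {2}ᶜ y * (c * t * c⁻¹)) * c := by group
      _ = _ := by rw [← this]; group
  · have := orderOf_conj' (constt {2}ᶜ y) c⁻¹
    rw [inv_inv] at this
    rw [← orderOf_coe, this]; exact piNat_two_compl.1 (piNat_constt _ _)
  · nth_rewrite 1 [← constt_mul_constt_compl {2} y, ← hc]; group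

theorem eq_one_of_odd {M : Type v} [Group M] [Finite M] (hM : IsPGroup 2 M) {m : M} (h : Odd (orderOf m)) : m = 1 := by
  obtain ⟨k, hk⟩ := IsPGroup.iff_orderOf.1 hM m
  rcases k with _ | k
  · exact orderOf_eq_one_iff.1 hk
  · rw [hk, pow_succ] at h; exact absurd (Nat.odd_mul.1 h).2 (by decide)

/-- The column of a 2-element with 2-nilpotent centralizer. -/
structure Nil (x : G) (n : ℕ) : Prop where
  val : ∑ θ ∈ B0 G, θ x⁻¹ * θ x = n
  cst : ∀ θ ∈ B0 G, ∀ y, IsConj x (constt {2} y) → θ y = θ x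

theorem Md.nil {M : Type v} [Group M] [Fintype M] {π : C1[t] →* M} (H : Md t π) (hM : IsPGroup 2 M) :
    Nil t (Nat.card M) := by
  classical
  refine ⟨?_, fun θ hθ y hy => ?_⟩
  · simpa using H.val 1 1 (by simp) (by simp)
  · obtain ⟨c, w, hw, rfl⟩ := exists_sec hy
    rw [(B0_irr hθ).isClassFunction, H.const hw (w' := 1)
      (by rw [map_one]; exact eq_one_of_odd hM ((odd_map H.odd w).2 hw)) hθ]
    simp

theorem nil_of_burnside (ht : PiNat {2} (orderOf t)) {S : Subgroup G} (h : IsPiHallOf {2} S C1[t])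
    (hn : C1[t] ⊓ N[S] ≤ C[S]) : Nil t (Nat.card S) := by
  classical
  have b := (Burnside_normal_complement Nat.prime_two h hn).card_mul
  have c : Nat.card (C1[t] ⧸ piCore {2}ᶜ C1[t]) = Nat.card S := by
    rw [piCoreOf, card_map_of_injective (subtype_injective _), card_eq_card_quotient_mul_card_subgroup (piCore {2}ᶜ C1[t]),
      mul_comm] at b
    exact (Nat.eq_of_mul_eq_mul_right Nat.card_pos b).symm
  have hM : IsPGroup 2 (C1[t] ⧸ piCore {2}ᶜ C1[t]) := by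
    obtain ⟨k, hk⟩ := IsPGroup.iff_card.1 (syl_isPGroup Nat.prime_two h)
    exact IsPGroup.of_card (c.trans hk)
  have := Fintype.ofFinite (C1[t] ⧸ piCore {2}ᶜ C1[t])
  rw [← c]
  refine Md.nil (π := QuotientGroup.mk' _) ⟨ht, QuotientGroup.mk'_surjective _, ?_, one_of_two hM⟩ hM
  have := piCoreOf_isPi {2}ᶜ C1[t]
  rw [QuotientGroup.ker_mk', ← piNat_two_compl]
  rwa [IsPiSubgroup, piCoreOf, card_map_of_injective (subtype_injective _)] at this

theorem recip (x a b : G) : ∑ θ ∈ B0 G, θ x * (θ a * θ b) / θ 1 =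
    (Nat.card G : ℂ)⁻¹ * ∑ g, ∑ θ ∈ B0 G, θ x * θ (g * a * g⁻¹ * b) := by
  rw [Finset.sum_comm, Finset.mul_sum]
  refine Finset.sum_congr rfl fun θ hθ => ?_
  have := (B0_irr hθ).sum_conj_mul a b
  have h1 := (B0_irr hθ).apply_one_ne_zero
  have h0 := card_ne_zero_complex G
  rw [← Finset.mul_sum]
  field_simp
  linear_combination (-θ x) * this

theorem map_B0 (σ : ℂ ≃+* ℂ) {χ : G → ℂ} (h : χ ∈ B0 G) : (fun g => σ (χ g)) ∈ B0 G := by
  obtain ⟨h, n, hn, e⟩ := mem_B0.1 h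
  refine mem_B0.2 ⟨h.map_ringHom (σ : ℂ →+* ℂ), n, hn, ?_⟩
  rw [← map_intCast σ, ← e, omega, omega, map_div₀, map_sum]
  congr 1
  exact Finset.sum_congr rfl fun g _ => by unfold oddInd; split_ifs <;> simp

theorem int_of_four {χ : G → ℂ} (hχ : IsCharacter G χ) {g : G} (h4 : g ^ 4 = 1) (h : IsConj g g⁻¹) :
    ∃ n : ℤ, χ g = n := by
  refine exists_int_of_forall_ringEquiv (hχ.isIntegral g) fun σ => ?_
  obtain ⟨k, hk, hσ⟩ := exists_pow_of_ringHom (σ : ℂ →+* ℂ) (show 0 < 4 by decide)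
  have := hχ.ringHom_apply (σ : ℂ →+* ℂ) (g := g) (k := k) fun z hz => hσ z (by
    obtain ⟨c, hc⟩ := orderOf_dvd_of_pow_eq_one h4
    rw [hc, pow_mul, hz, one_pow])
  have o : Odd k := Nat.coprime_two_right.1 (hk.coprime_dvd_right (by decide))
  rw [pow_eq_pow_mod k h4] at this
  rcases show k % 4 = 1 ∨ k % 4 = 3 by obtain ⟨j, rfl⟩ := o; omega with e | e <;> rw [e] at this
  · simpa using this
  · rw [show g ^ 3 = g⁻¹ from eq_inv_of_mul_eq_one_left (by rw [← pow_succ, h4]),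
      ← hχ.isClassFunction.eq_of_isConj h] at this
    exact this

theorem lin_nat {A : Type v} [Group A] [Fintype A] (ψ : A →* G) (l : A →* ℂ) {χ : G → ℂ} (hχ : IsCharacter G χ) :
    ∃ n : ℕ, ∑ a, χ (ψ a) * conj (l a) = Nat.card A * n := by
  obtain ⟨n, hn⟩ := (hχ.comp ψ).ci_irr_nat (isIrrCharacter_hom l)
  exact ⟨n, by rw [← hn, classInner, mul_inv_cancel_left₀ (card_ne_zero_complex A)]⟩

instance fT0 : Fintype T0 := Fintype.ofEquiv _ T0.eqv.symm

theorem tsum {χ : G → ℂ} (hχ : IsCharacter G χ) (φ : T0 →* G) (ε : T0 →* ℤ) {n : ℕ} (k : T0 → Fin n) (v : Fin n → ℤ)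
    (hv : ∀ r, χ (φ r) = v (k r)) (c : Fin n → ℤ) (hc : ∀ i, ∑ r, (if k r = i then ε r else 0) = c i) :
    ∃ m : ℕ, ∑ i, v i * c i = 64 * m := by
  obtain ⟨m, hm⟩ := lin_nat φ ((Int.castRingHom ℂ).toMonoidHom.comp ε) hχ
  refine ⟨m, ?_⟩
  have : ∑ i, v i * c i = ∑ r, v (k r) * ε r := by
    simp only [← hc, Finset.mul_sum]
    rw [Finset.sum_comm]
    exact Finset.sum_congr rfl fun r _ => by simp
  rw [this]
  simp only [hv, card_T0] at hm
  exact_mod_cast (by simpa using hm : ∑ r, (v (k r) : ℂ) * ε r = 64 * m)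

/-- The homomorphism from a cyclic group given by an element. -/
def cyc {A : Type v} [Monoid A] {n : ℕ} [NeZero n] (x : A) (h : x ^ n = 1) : Multiplicative (Fin n) →* A where
  toFun k := x ^ k.toAdd.val
  map_one' := pow_zero x
  map_mul' j k := by rw [toAdd_mul, Fin.val_add, ← pow_eq_pow_mod _ h, pow_add]

theorem z44 {χ : G → ℂ} (hχ : IsCharacter G χ) {x y : G} (hx : x ^ 4 = 1) (hy : y ^ 4 = 1) (hc : Commute x y)
    {f a c : ℤ} (h : ∀ i j : Fin 4, χ (x ^ i.val * y ^ j.val) =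
      ((if i = 0 ∧ j = 0 then f else if i.val % 2 = 0 ∧ j.val % 2 = 0 then a else c : ℤ) : ℂ)) : 4 ∣ a - c := by
  let ψ := (cyc x hx).noncommCoprod (cyc y hy) fun i j => hc.pow_pow _ _
  have e : ∀ l : Multiplicative (Fin 4) × Multiplicative (Fin 4) →* ℂ, ∃ n : ℕ,
      ∑ i : Fin 4, ∑ j : Fin 4, χ (x ^ i.val * y ^ j.val) * conj (l (.ofAdd i, .ofAdd j)) = 16 * n := fun l => by
    obtain ⟨n, hn⟩ := lin_nat ψ l hχ
    rw [Fintype.sum_prod_type] at hn
    exact ⟨n, hn.trans (by simp)⟩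
  obtain ⟨n, hn⟩ := e 1
  obtain ⟨m, hm⟩ := e ((cyc Complex.I Complex.I_pow_four).comp (MonoidHom.fst _ _))
  simp [h, Fin.sum_univ_four, cyc, pow_succ] at hn hm
  have a1 : f + 3 * a + 12 * c = 16 * n := by exact_mod_cast (by linear_combination hn : (f + 3 * a + 12 * c : ℂ) = 16 * n)
  have a2 : f - a = 16 * m := by exact_mod_cast (by linear_combination hm : (f - a : ℂ) = 16 * m)
  omega

theorem lt_degree [IsSimpleGroup G] {χ : G → ℂ} (hχ : IsIrrCharacter G χ) (h1 : χ ≠ fun _ => 1) {g : G} (hg : g ≠ 1)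
    {a f : ℤ} (ha : χ g = a) (hf : χ 1 = f) : a < f ∧ 0 < f := by
  have := hχ.isCharacter.re_le g
  have p := hχ.re_one_pos
  rw [ha, hf] at this
  rw [hf] at p
  refine ⟨lt_of_le_of_ne (by simpa using this) fun e => ?_, by simpa using p⟩
  rcases (chKer_normal hχ.isClassFunction).eq_bot_or_eq_top with h | h
  · exact hg (mem_bot.1 (h ▸ hχ.isCharacter.mem_chKer_iff.2 (by rw [ha, hf, e])))
  · exact h1 (hχ.eq_one_of_forall fun g => apply_eq_of_mem_chKer (h ▸ mem_top g))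

open Classical in
/-- The nontrivial characters of the principal block. -/
noncomputable def B1 (G : Type u) [Group G] [Fintype G] : Finset (G → ℂ) := (B0 G).erase fun _ => 1

theorem mem_B1 {χ : G → ℂ} : χ ∈ B1 G ↔ (χ ≠ fun _ => 1) ∧ χ ∈ B0 G := by classical exact Finset.mem_erase

theorem qsum {F : (G → ℂ) → ℂ} {φ : (G → ℂ) → ℚ} (h : ∀ θ ∈ B0 G, F θ = φ θ) {m k : ℚ} (e : ∑ θ ∈ B0 G, F θ = m)
    (h1 : F (fun _ => 1) = k) : k + ∑ θ ∈ B1 G, φ θ = m := by
  classical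
  rw [← Finset.add_sum_erase _ _ one_mem_B0, h1, Finset.sum_congr rfl fun θ hθ => h θ (Finset.mem_of_mem_erase hθ)] at e
  exact_mod_cast e

theorem zsum {F : (G → ℂ) → ℂ} {φ : (G → ℂ) → ℤ} (h : ∀ θ ∈ B0 G, F θ = φ θ) {m k : ℤ} (e : ∑ θ ∈ B0 G, F θ = m)
    (h1 : F (fun _ => 1) = k) : k + ∑ θ ∈ B1 G, φ θ = m := by
  exact_mod_cast qsum (φ := fun θ => φ θ) (m := m) (k := k) (by simpa using h) (by simpa using e) (by simpa using h1)

end Cfsg.Agent.LY
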