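import Cfsg.Agent.LY.Num

set_option autoImplicit false
set_option maxRecDepth 100000

namespace Cfsg.Agent.LY

def zz (n : ℕ) : ℤ := if n % 2 = 0 then (n / 2 : ℕ) else .negSucc (n / 2)
def Tr.s (i a b : ℕ) : Tr → Tr → Tr := .S i ((a : ℤ) - 1) ((b : ℤ) - 1)
def Tr.l (x y z p q : ℕ) : Tr := .L (zz x) (zz y) (zz z) (zz p) (zz q)
def Tr.m (x y z p : ℕ) : Tr := .M (zz x) (zz y) (zz z) (zz p)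

def KA : Ty := ⟨1, 1, 4, 1, 0, 0, 0, 0, 0⟩
def KB : Ty := ⟨1, 1, 5, 0, 0, 0, 0, 0, 0⟩
def tsA : List Ty := [⟨4, -7, 2, 1, 4, 4, 25, 25, 39⟩,
  ⟨4, -3, -2, 1, 4, 4, 13, 13, 51⟩,
  ⟨4, 8, 2, 0, 4, 4, -24, 40, 24⟩,
  ⟨4, 1, 4, 1, 4, 0, 1, 65, 63⟩,
  ⟨4, 5, 0, 1, 4, 0, -11, 53, 75⟩,
  ⟨4, 4, -4, 0, 4, 0, -12, 52, 12⟩,
  ⟨4, 1, 4, 1, 2, 4, 1, 65, 63⟩,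
  ⟨4, 5, 0, 1, 2, 4, -11, 53, 75⟩,
  ⟨4, 4, -4, 0, 2, 4, -12, 52, 12⟩,
  ⟨4, -7, 2, 1, 2, 0, 25, 25, 39⟩,
  ⟨4, -3, -2, 1, 2, 0, 13, 13, 51⟩,
  ⟨4, 8, 2, 0, 2, 0, -24, 40, 24⟩,
  ⟨4, -7, -3, 1, 1, 1, 25, 25, 39⟩,
  ⟨4, -3, 3, 1, 1, 1, 13, 13, 51⟩,
  ⟨4, 1, -1, 1, 1, 1, 1, 65, 63⟩,
  ⟨4, 8, -3, 0, 1, 1, -24, 40, 24⟩,
  ⟨4, 4, 1, 0, 1, 1, -12, 52, 12⟩,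
  ⟨2, -2, 2, 2, 0, 4, 14, 14, 114⟩,
  ⟨2, 2, -2, 2, 0, 4, 2, 66, 126⟩,
  ⟨2, -7, 2, 1, 0, 4, 25, 25, 39⟩,
  ⟨2, -3, -2, 1, 0, 4, 13, 13, 51⟩,
  ⟨2, 12, -2, 0, 0, 4, -36, 28, 36⟩,
  ⟨2, 8, 2, 0, 0, 4, -24, 40, 24⟩,
  ⟨1, -17, -8, 3, 0, 0, 63, 63, 129⟩,
  ⟨1, -13, 8, 3, 0, 0, 51, 51, 141⟩,
  ⟨1, 7, 8, 3, 0, 0, -9, 55, 201⟩,
  ⟨1, 3, -8, 3, 0, 0, 3, 67, 189⟩,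
  ⟨1, 11, 4, 3, 0, 0, -21, 43, 213⟩,
  ⟨1, -9, 4, 3, 0, 0, 39, 39, 153⟩,
  ⟨1, -1, -4, 3, 0, 0, 15, 15, 177⟩,
  ⟨1, 15, 0, 3, 0, 0, -33, 31, 225⟩,
  ⟨1, -5, 0, 3, 0, 0, 27, 27, 165⟩,
  ⟨1, -2, -8, 2, 0, 0, 14, 14, 114⟩,
  ⟨1, 2, 8, 2, 0, 0, 2, 66, 126⟩,
  ⟨1, -14, 4, 2, 0, 0, 50, 50, 78⟩,
  ⟨1, 14, -4, 2, 0, 0, -34, 30, 162⟩,
  ⟨1, -6, -4, 2, 0, 0, 26, 26, 102⟩,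
  ⟨1, 6, 4, 2, 0, 0, -10, 54, 138⟩,
  ⟨1, -10, 0, 2, 0, 0, 38, 38, 90⟩,
  ⟨1, 10, 0, 2, 0, 0, -22, 42, 150⟩,
  ⟨1, 17, 8, 1, 0, 0, -47, 81, 111⟩,
  ⟨1, 13, -8, 1, 0, 0, -35, 29, 99⟩,
  ⟨1, -7, -8, 1, 0, 0, 25, 25, 39⟩,
  ⟨1, -3, 8, 1, 0, 0, 13, 13, 51⟩,
  ⟨1, -11, -4, 1, 0, 0, 37, 37, 27⟩,
  ⟨1, 9, -4, 1, 0, 0, -23, 41, 87⟩,
  ⟨1, 1, 4, 1, 0, 0, 1, 65, 63⟩,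
  ⟨1, -15, 0, 1, 0, 0, 49, 49, 79⟩,
  ⟨1, 5, 0, 1, 0, 0, -11, 53, 75⟩,
  ⟨1, 12, 8, 0, 0, 0, -36, 28, 36⟩,
  ⟨1, 8, -8, 0, 0, 0, -24, 40, 24⟩,
  ⟨1, 16, 4, 0, 0, 0, -48, 80, 48⟩,
  ⟨1, 4, -4, 0, 0, 0, -12, 52, 12⟩]
def tsB : List Ty := [⟨1, 7, 7, 0, 29, 0, -105, 23, 105⟩,
  ⟨1, 5, -7, 0, 29, 0, 69, 69, 59⟩,
  ⟨1, 3, 7, 0, 29, 0, -93, 35, 93⟩,
  ⟨1, 1, -7, 0, 29, 0, 81, 81, 47⟩,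
  ⟨1, 7, 3, 0, 21, 0, -57, 71, 57⟩,
  ⟨1, 5, -3, 0, 21, 0, 21, 21, 43⟩,
  ⟨1, 3, 3, 0, 21, 0, -45, 19, 45⟩,
  ⟨1, 1, -3, 0, 21, 0, 33, 33, 31⟩,
  ⟨1, 6, -6, 0, 20, 0, 54, 54, 10⟩,
  ⟨1, 6, 6, 0, 20, 0, -90, 38, 90⟩,
  ⟨1, 2, -6, 0, 20, 0, 66, 66, 62⟩,
  ⟨1, 2, 6, 0, 20, 0, -78, 50, 78⟩,
  ⟨1, 6, -2, 0, 20, 0, 6, 70, 58⟩,
  ⟨1, 6, 2, 0, 20, 0, -42, 22, 42⟩,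
  ⟨1, 2, -2, 0, 20, 0, 18, 18, 46⟩,
  ⟨1, 2, 2, 0, 20, 0, -30, 34, 30⟩,
  ⟨1, 7, -1, 0, 13, 0, -9, 55, 9⟩,
  ⟨1, 5, 1, 0, 13, 0, -27, 37, 27⟩,
  ⟨1, 3, -1, 0, 13, 0, 3, 67, 61⟩,
  ⟨1, 1, 1, 0, 13, 0, -15, 49, 15⟩,
  ⟨1, 7, -5, 0, 5, 0, 39, 39, 25⟩,
  ⟨1, 5, 5, 0, 5, 0, -75, 53, 75⟩,
  ⟨1, 3, -5, 0, 5, 0, 51, 51, 13⟩,
  ⟨1, 1, 5, 0, 5, 0, -63, 65, 63⟩,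
  ⟨1, 4, 0, 0, 0, 0, -12, 52, 12⟩]
def ix (ts : List Ty) (l : List ℕ) : List Ty := l.map fun i => ts.getD i KA
def CA : List (List Ty) := [ix tsA [52, 52, 52, 48, 48, 31, 16, 16, 16, 14], ix tsA [52, 46, 45, 31, 16, 16, 16, 14], ix tsA [52, 52, 48, 48, 46, 38, 16, 16, 14, 14], ix tsA [46, 46, 45, 38, 16, 16, 14, 14], ix tsA [52, 47, 46, 46, 16, 14, 14, 14], ix tsA [52, 48, 48, 45, 17, 16, 16, 10], ix tsA [52, 48, 48, 48, 48, 46, 19, 16, 14, 10], ix tsA [52, 46, 39, 19, 16, 14, 10], ix tsA [45, 37, 19, 16, 14, 10], ix tsA [52, 52, 48, 48, 46, 38, 10, 7], ix tsA [46, 46, 45, 38, 10, 7], ix tsA [52, 52, 52, 31, 22, 20, 4], ix tsA [52, 52, 48, 48, 46, 38, 20, 20, 4], ix tsA [46, 46, 45, 38, 20,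 20, 4], ix tsA [52, 48, 48, 46, 36, 20, 19, 4], ix tsA [52, 52, 48, 48, 48, 48, 48, 48, 46, 38, 1], ix tsA [48, 48, 48, 48, 46, 46, 45, 38, 1], ix tsA [52, 52, 48, 48, 46, 39, 38, 1], ix tsA [46, 46, 45, 39, 38, 1], ix tsA [52, 48, 48, 45, 38, 37, 1]]
def CB : List (List Ty) := [ix tsB [24, 24, 24, 23, 22, 19, 19, 19, 19, 19], ix tsB [24, 23, 23, 18, 18, 18, 18, 18], ix tsB [24, 23, 22, 19, 19, 19, 18, 17], ix tsB [24, 24, 24, 19, 10, 7, 6], ix tsB [24, 24, 19, 11, 7, 5], ix tsB [24, 24, 24, 19, 18, 15, 3], ix tsB [24, 24, 19, 17, 14, 3]]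

theorem p1A : p1 CA 70 tsA ⟨319, 64, 15, -4, -1, -4, 16, 16⟩ [] = true := by decide +kernel
theorem p1B : p1 CB 40 tsB ⟨63, 55, 0, -5, 0, 0, 75, 0⟩ [] = true := by decide +kernel
theorem p2B : ∀ ts ∈ CB, chkL 0 0 0 0 10 50 ts (ts.map Ty.dom) = true := by decide +kernel

end Cfsg.Agent.LY
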