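import Cfsg.Agent.BS.Block2

/-! # Columns of the principal 2-block on the section of a 2-element -/

set_option autoImplicit false
set_option linter.unusedSectionVars false

namespace Cfsg.Agent.LY

open Cfsg Cfsg.Agent.Char Cfsg.Agent.GT Cfsg.Agent.BS IsLocalRing

universe u v

variable {G : Type u} [Group G] [Fintype G]

theorem kB_pow {a m : ℕ} (hm : Odd m) (hd : Nat.card G ∣ 2 ^ a * m) (h : G) :
    ∃ r ∈ V2, kB h = nPow (2 ^ (a + 1)) h + 2 * r := by
  classical
  obtain ⟨d, hd⟩ := hd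
  have hc : ∀ χ : G → ℂ, χ ∈ Irr G → ∃ c : ℤ,
      (if χ ∈ B0 G then (1 : ℂ) else 0) - omega χ ^ 2 ^ (a + 1) = 2 ^ (a + 1) * c := by
    intro χ hχ
    obtain ⟨n, hn⟩ := omega_int (mem_Irr.1 hχ)
    rcases Int.even_or_odd n with he | ho
    · have : χ ∉ B0 G := by
        intro hB
        obtain ⟨n', h1, h2⟩ := (mem_B0.1 hB).2
        have : n' = n := by exact_mod_cast h2.symm.trans hn
        exact Int.not_odd_iff_even.2 he (this ▸ h1)
      obtain ⟨k, rfl⟩ := he
      obtain ⟨d, hd⟩ := Nat.exists_eq_add_of_le (Nat.lt_two_pow_self (n := a + 1)).le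
      refine ⟨-(2 ^ d * k ^ 2 ^ (a + 1)), ?_⟩
      rw [if_neg this, hn, ← two_mul]
      push_cast
      rw [mul_pow]
      nth_rewrite 1 [hd]
      rw [pow_add]; ring
    · have hB : χ ∈ B0 G := mem_B0.2 ⟨mem_Irr.1 hχ, n, ho, hn⟩
      have hcop : IsCoprime n ((2 ^ (a + 2) : ℕ) : ℤ) := by
        push_cast
        exact IsCoprime.pow_right (Int.isCoprime_two_right.2 ho)
      obtain ⟨c, hc⟩ := int_pow_totient hcop
      rw [Nat.totient_prime_pow Nat.prime_two (by omega)] at hc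
      refine ⟨2 * c, ?_⟩
      rw [if_pos hB, hn]
      have := congrArg (fun z : ℤ => (z : ℂ)) hc
      simp only [Nat.add_one_sub_one, mul_one] at this
      push_cast at this ⊢
      rw [this]; ring
  choose! c hc using hc
  refine ⟨(m : ℂ)⁻¹ * (d * ∑ χ ∈ Irr G, χ 1 * c χ * χ h), ?_, ?_⟩
  · refine V2.mul_mem _ _ (inv_odd_mem_V2 hm)
      (mem_V2 ((Char.isIntegral_natCast d).mul (IsIntegral.sum _ fun χ hχ => ?_)))
    have := (mem_Irr.1 hχ).isCharacter
    exact ((this.isIntegral 1).mul (Char.isIntegral_intCast _)).mul (this.isIntegral h)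
  · have e1 : kB h = (Nat.card G : ℂ)⁻¹ *
        ∑ χ ∈ Irr G, χ 1 * (if χ ∈ B0 G then (1 : ℂ) else 0) * χ h := by
      unfold kB
      congr 1
      have : B0 G = (Irr G).filter (· ∈ B0 G) := by
        ext χ; simp only [Finset.mem_filter]
        exact ⟨fun h => ⟨mem_Irr.2 (B0_irr h), h⟩, fun h => h.2⟩
      nth_rewrite 1 [this]
      rw [Finset.sum_filter]
      exact Finset.sum_congr rfl fun χ _ => by split_ifs <;> simp
    have hm0 : (m : ℂ) ≠ 0 := by exact_mod_cast hm.pos.ne'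
    have h0 := card_ne_zero_complex G
    have hd' : (d : ℂ) = 2 ^ a * m / Nat.card G := by
      rw [eq_div_iff h0, mul_comm]; exact_mod_cast hd.symm
    have e2 : (2 : ℂ) * ((m : ℂ)⁻¹ * (d * ∑ χ ∈ Irr G, χ 1 * c χ * χ h)) =
        (Nat.card G : ℂ)⁻¹ * ∑ χ ∈ Irr G, χ 1 * (2 ^ (a + 1) * c χ) * χ h := by
      rw [hd']
      simp only [Finset.mul_sum]
      refine Finset.sum_congr rfl fun χ _ => ?_
      field_simp
      ring
    rw [e1, e2, nPow_eq, ← mul_add, ← Finset.sum_add_distrib]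
    congr 1
    refine Finset.sum_congr rfl fun χ hχ => ?_
    rw [← hc χ hχ]; ring

variable {t : G}

theorem c1c (c : C1[t]) : (c : G) * t = t * c := Subgroup.mem_centralizer_singleton_iff.1 c.2

theorem nPow_res [Fintype C1[t]] (ht : PiNat {2} (orderOf t)) (N : ℕ) (c : C1[t]) :
    ∃ k : ℤ, nPow N (c : G) = nPow N c + 2 * k := by
  classical
  induction N generalizing c with
  | zero => exact ⟨0, by simp [nPow]⟩
  | succ N ih =>
    obtain ⟨k, hk⟩ := nPow_cent ht N (c1c c)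
    choose r hr using ih
    refine ⟨k + ∑ g : C1[t], if Odd (orderOf g) then r (g * c) else 0, ?_⟩
    rw [hk, Finset.sum_subtype (p := (· ∈ C1[t])) (F := ‹_›) _
      (fun g => by simp [Subgroup.mem_centralizer_singleton_iff]), nPow, mul_add, Finset.mul_sum, add_comm (2 * k),
      ← add_assoc, ← Finset.sum_add_distrib]
    congr 1
    refine Finset.sum_congr rfl fun g _ => ?_
    rw [Subgroup.orderOf_coe]
    split_ifs
    · exact hr (g * c)
    · simp

theorem kB_res [Fintype C1[t]] (ht : PiNat {2} (orderOf t)) (c : C1[t]) :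
    ∃ r ∈ V2, kB (c : G) = kB c + 2 * r := by
  obtain ⟨a, m, hm, ha⟩ := Nat.exists_eq_two_pow_mul_odd (Nat.card_pos (α := G)).ne'
  obtain ⟨r, hr, e⟩ := kB_pow hm ha.dvd (c : G)
  obtain ⟨s, hs, e'⟩ := kB_pow hm ((Subgroup.card_subgroup_dvd_card _).trans ha.dvd) c
  obtain ⟨k, hk⟩ := nPow_res ht (2 ^ (a + 1)) c
  refine ⟨k + r - s, sub_mem (add_mem (mem_V2 (Char.isIntegral_intCast _)) hr) hs, ?_⟩
  rw [e, e', hk]; push_cast; ring

theorem idem_zero (ht : PiNat {2} (orderOf t)) {f : G → ℂ} (hm : ∀ g, f g ∈ V2)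
    (hf : ∀ g, ∑ c, f c * f (c⁻¹ * g) = f g) (hx : ∀ c, c * t = t * c → ∀ g, f (c * g * c⁻¹) = f g)
    (h0 : ∀ c, c * t = t * c → ∃ r ∈ V2, f c = 2 * r) {w : G} (hw : w * t = t * w)
    (hwo : Odd (orderOf w)) (y : G) : ∑ a, f ((t * w)⁻¹ * a * y * a⁻¹) = 0 := by
  have cinv : ∀ c, c * t = t * c → c⁻¹ * t = t * c⁻¹ := fun c hc =>
    (show Commute c t from hc).inv_left
  have cmul : ∀ a b, a * t = t * a → b * t = t * b → a * b * t = t * (a * b) := fun a b ha hb =>
    (show Commute a t from ha).mul_left hb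
  have hxt : t * w * t = t * (t * w) := cmul t w rfl hw
  have key : ∀ (y : G) (S : G → Prop), (∀ a, S (t * w * a * y⁻¹) ↔ S a) →
      (∀ a, ¬ S a → ∀ j : ℕ, Odd j → (t * w) ^ j * a * (y ^ j)⁻¹ ≠ a) →
      (∀ a b, S a → S b → a * b⁻¹ * t = t * (a * b⁻¹)) → ∑ a, f ((t * w)⁻¹ * a * y * a⁻¹) = 0 := by
    intro y S a b c
    have := sum_conj_eq_zero (R := V2) V2_two_ne V2_residue_two (t * w) y S a b (fun g => ⟨f g, hm g⟩)
      (fun g => Subtype.ext (by simpa using hf g)) (fun g => Subtype.ext (hx _ hxt g)) fun a b ha hb => by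
        obtain ⟨r, hr, e⟩ := h0 _ (c a b ha hb)
        exact residue_eq_zero_of_two_mul hr e
    simpa using congrArg (fun z : V2 => (z : ℂ)) this
  by_cases hy : IsConj t (constt {2} y)
  · obtain ⟨c, hc⟩ := isConj_iff.1 hy
    obtain ⟨w', h1, h2, rfl⟩ : ∃ w', w' * t = t * w' ∧ Odd (orderOf w') ∧ y = c * (t * w') * c⁻¹ := by
      refine ⟨c⁻¹ * constt {2}ᶜ y * c, ?_, ?_, ?_⟩
      · have := (commute_constt_constt {2} {2}ᶜ y).eq
        rw [← hc] at this
        calc c⁻¹ * constt {2}ᶜ y * c * t = c⁻¹ * (constt {2}ᶜ y * (c * t * c⁻¹)) * c := by group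
          _ = _ := by rw [← this]; group
      · have := orderOf_conj' (constt {2}ᶜ y) c⁻¹
        rw [inv_inv] at this
        rw [this]; exact piNat_two_compl.1 (piNat_constt _ _)
      · nth_rewrite 1 [← constt_mul_constt_compl {2} y, ← hc]; group
    have hy : t * w' * t = t * (t * w') := cmul t w' rfl h1
    rw [← key (t * w') (fun a => a * t = t * a) (fun a => ⟨fun h => by
        simpa [mul_assoc] using cmul _ _ (cmul _ _ (cinv _ hxt) h) hy,
      fun h => cmul _ _ (cmul _ _ hxt h) (cinv _ hy)⟩) ?_ fun a b ha hb => cmul _ _ ha (cinv _ hb)]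
    · exact Fintype.sum_equiv (Equiv.mulRight c) _ _ fun a => by simp [mul_assoc]
    · intro a ha j hj e
      apply ha
      have e1 : a⁻¹ * (t * w) ^ j * a⁻¹⁻¹ = (t * w') ^ j := by
        rw [inv_inv, mul_assoc, inv_mul_eq_iff_eq_mul]
        exact mul_inv_eq_iff_eq_mul.1 e
      have e2 := congrArg (constt {2}) e1
      rw [constt_conj, constt_pow, constt_pow, constt_two_mul' ht hw hwo,
        constt_two_mul' ht h1 h2, inv_inv, mul_assoc, inv_mul_eq_iff_eq_mul] at e2
      exact (commute_of_mem_zpowers_left (mem_zpowers_pow_odd ht hj) e2).symm.eq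
  · refine key y (fun _ => False) (fun _ => Iff.rfl) (fun a _ j hj e => hy ?_) fun _ _ h => h.elim
    rw [← constt_two_mul' ht hw hwo]
    refine isConj_constt_of_pow hj (isConj_iff.2 ⟨a⁻¹, ?_⟩)
    rw [inv_inv, mul_assoc, inv_mul_eq_iff_eq_mul]
    exact mul_inv_eq_iff_eq_mul.1 e

open Classical in
/-- The idempotent of a subgroup. -/
noncomputable def eO (O : Subgroup G) (g : G) : ℂ := if g ∈ O then (Nat.card O : ℂ)⁻¹ else 0

theorem conv_eO (O : Subgroup G) (φ : G → ℂ) (g : G) : ∑ c, eO O c * φ (c⁻¹ * g) = avg O φ g := by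
  classical
  rw [avg, Finset.mul_sum]
  refine Fintype.sum_equiv (Equiv.inv G) _ _ fun c => ?_
  simp only [eO, Equiv.inv_apply, inv_mem_iff]
  split_ifs <;> simp

theorem avg_eO (O : Subgroup G) (g : G) : avg O (eO O) g = eO O g := by
  rw [← avg_const O (eO O g) g]
  exact avg_congr O fun o ho => by rw [eO, eO, propext (O.mul_mem_cancel_left ho)]

theorem sec0 (ht : PiNat {2} (orderOf t)) (O : Subgroup G) (hO : ∀ o ∈ O, o * t = t * o)
    (hn : ∀ c, c * t = t * c → ∀ o ∈ O, c * o * c⁻¹ ∈ O) (hodd : Odd (Nat.card O))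
    (H : ∀ c, c * t = t * c → ∃ r ∈ V2, kB c = eO O c + 2 * r) {w : G} (hw : w * t = t * w)
    (hwo : Odd (orderOf w)) (y : G) :
    ∑ θ ∈ B0 G, θ (t * w)⁻¹ * θ y = ∑ a, eO O ((t * w)⁻¹ * a * y * a⁻¹) := by
  classical
  have hiff : ∀ c, c * t = t * c → ∀ o, c * o * c⁻¹ ∈ O ↔ o ∈ O := fun c hc o =>
    ⟨fun h => by simpa [mul_assoc] using hn c⁻¹ (show Commute c t from hc).inv_left _ h, hn c hc o⟩
  have m1 : ∀ g, avg O kB g ∈ V2 := fun g => avg_mem O hodd g fun o _ => kB_mem _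
  have m2 : ∀ g, eO O g ∈ V2 := fun g => by
    unfold eO; split_ifs; exacts [inv_odd_mem_V2 hodd, V2.zero_mem]
  have a1 : ∀ g, ∑ c, avg O kB c * kB (c⁻¹ * g) = avg O kB g := fun g => by
    rw [conv_avg]; simp only [conv_kB_kB]
  have a2 : ∀ g, ∑ c, kB c * avg O kB (c⁻¹ * g) = avg O kB g := fun g => by
    rw [conv_comm_class kB_class, a1]
  have a3 : ∀ g, ∑ c, avg O kB c * avg O kB (c⁻¹ * g) = avg O kB g := fun g => by
    rw [conv_avg]; simp only [a2]; exact avg_avg O kB g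
  have a4 : ∀ g, ∑ c, avg O kB c * eO O (c⁻¹ * g) = avg O kB g := fun g => by
    rw [conv_avg]; simp only [conv_comm_class kB_class, conv_eO]; exact avg_avg O kB g
  have i1 : ∀ c, c * t = t * c → ∀ g, avg O kB (c * g * c⁻¹) = avg O kB g := fun c hc g => by
    simp only [avg]
    congr 1
    refine (Fintype.sum_equiv (MulAut.conj c).toEquiv _ _ fun o => ?_).symm
    simp only [MulEquiv.toEquiv_eq_coe, EquivLike.coe_coe, MulAut.conj_apply, hiff c hc]
    split_ifs
    · rw [← kB_class _ c]; congr 1; group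
    · rfl
  have h1 : ∀ c, c * t = t * c → ∃ r ∈ V2, avg O kB c = eO O c + 2 * r := fun c hc => by
    choose! r hr hr' using H
    have cm : ∀ o ∈ O, o * c * t = t * (o * c) := fun o ho => (show Commute o t from hO o ho).mul_left hc
    refine ⟨avg O r c, avg_mem O hodd c fun o ho => hr _ (cm o ho), ?_⟩
    rw [← avg_mul, ← avg_eO, ← sub_eq_iff_eq_add', ← avg_sub]
    exact avg_congr O fun o ho => by rw [hr' _ (cm o ho)]; ring
  have e1 := idem_zero ht (f := fun g => kB g - avg O kB g) (fun g => sub_mem (kB_mem g) (m1 g))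
    (fun g => by
      simp only [mul_sub, sub_mul, Finset.sum_sub_distrib]
      rw [a1, a2, a3, conv_kB_kB]; ring)
    (fun c hc g => by rw [kB_class g, i1 c hc]) (fun c hc => by
      obtain ⟨r, hr, e⟩ := H c hc
      obtain ⟨s, hs, e'⟩ := h1 c hc
      exact ⟨r - s, sub_mem hr hs, by rw [e, e']; ring⟩) hw hwo y
  have e2 := idem_zero ht (f := fun g => eO O g - avg O kB g) (fun g => sub_mem (m2 g) (m1 g))
    (fun g => by
      simp only [mul_sub, sub_mul, Finset.sum_sub_distrib]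
      rw [conv_eO, conv_eO, a3, a4, avg_avg, avg_eO]; ring)
    (fun c hc g => by simp only [eO, hiff c hc, i1 c hc]) (fun c hc => by
      obtain ⟨s, hs, e'⟩ := h1 c hc
      exact ⟨-s, neg_mem hs, by rw [e']; ring⟩) hw hwo y
  rw [Finset.sum_sub_distrib] at e1 e2
  rw [← sum_kB_conj]
  linear_combination e1 - e2

variable {M : Type v} [Group M] [Fintype M]

theorem odd_map {C : Type u} [Group C] [Fintype C] {π : C →* M} (ho : Odd (Nat.card π.ker)) (g : C) :
    Odd (orderOf (π g)) ↔ Odd (orderOf g) := by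
  refine ⟨fun h => ?_, fun h => h.of_dvd_nat (orderOf_map_dvd π g)⟩
  have : g ^ orderOf (π g) ∈ π.ker := by rw [MonoidHom.mem_ker, map_pow, pow_orderOf_eq_one]
  refine (h.mul ho).of_dvd_nat (orderOf_dvd_of_pow_eq_one ?_)
  rw [pow_mul]; exact orderOf_dvd_iff_pow_eq_one.1 (π.ker.orderOf_dvd_natCard this)

theorem kB_ker {C : Type u} [Group C] [Fintype C] {π : C →* M} (hs : Function.Surjective π)
    (ho : Odd (Nat.card π.ker)) (h1 : ∀ ψ, IsIrrCharacter M ψ → ψ ∈ B0 M) (c : C) : kB c = eO π.ker c := by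
  classical
  have hB : B0 C = IrrKer π.ker := by
    ext ψ
    rw [mem_IrrKer]
    constructor
    · intro h
      refine ⟨B0_irr h, fun n hn => ?_⟩
      have := B0_apply_mul_odd' (t := 1) (by rw [orderOf_one]; exact PiNat.one) π.ker (by simp)
        (fun c _ o ho => π.normal_ker.conj_mem o ho c) ho h hn
      rwa [one_mul] at this
    · rintro ⟨h, hk⟩
      obtain ⟨φ, hφ, rfl⟩ := h.exists_deflation π hs hk
      obtain ⟨-, n, hn, e⟩ := mem_B0.1 (h1 φ hφ)
      refine mem_B0.2 ⟨h, Nat.card π.ker * n, (Int.odd_coe_nat _ |>.2 ho).mul hn, ?_⟩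
      have := sum_comp_surjective π hs fun q => oddInd q * φ q
      simp only [omega, oddInd, map_one, odd_map ho] at this e ⊢
      rw [this, mul_div_assoc, e]; push_cast; rfl
  rw [kB, hB, sum_irr_ker_degree_mul, eO]
  split_ifs
  · have := card_ne_zero_complex π.ker
    have h2 : (π.ker.index : ℂ) ≠ 0 := by exact_mod_cast π.ker.index_ne_zero_of_finite
    rw [← π.ker.card_mul_index]; push_cast; field_simp
  · simp

/-- The centralizer of a 2-element modulo an odd normal subgroup has a single block. -/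
structure Md (t : G) (π : C1[t] →* M) : Prop where
  two : PiNat {2} (orderOf t)
  surj : Function.Surjective π
  odd : Odd (Nat.card π.ker)
  one : ∀ ψ, IsIrrCharacter M ψ → ψ ∈ B0 M

variable {π : C1[t] →* M}

theorem Md.sec (H : Md t π) (w : C1[t]) (hw : Odd (orderOf w)) (y : G) :
    ∑ θ ∈ B0 G, θ (t * w)⁻¹ * θ y = ∑ a, eO (π.ker.map C1[t].subtype) ((t * w)⁻¹ * a * y * a⁻¹) := by
  classical
  have hc : Nat.card (π.ker.map C1[t].subtype) = Nat.card π.ker :=
    Subgroup.card_map_of_injective (Subgroup.subtype_injective _)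
  refine sec0 H.two _ ?_ ?_ (hc ▸ H.odd) (fun c hc' => ?_) (c1c w) (by rwa [Subgroup.orderOf_coe]) y
  · rintro _ ⟨o, -, rfl⟩; exact c1c o
  · rintro c hc _ ⟨o, ho, rfl⟩
    exact ⟨_, π.normal_ker.conj_mem o ho ⟨c, Subgroup.mem_centralizer_singleton_iff.2 hc⟩, rfl⟩
  · obtain ⟨r, hr, e⟩ := kB_res H.two ⟨c, Subgroup.mem_centralizer_singleton_iff.2 hc'⟩
    refine ⟨r, hr, ?_⟩
    rw [kB_ker H.surj H.odd H.one] at e
    rw [e, eO, eO, hc]
    congr 2
    exact propext (Subgroup.mem_map_iff_mem (Subgroup.subtype_injective _)).symm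

theorem Md.zero (H : Md t π) (w : C1[t]) (hw : Odd (orderOf w)) {y : G}
    (h : ∀ (a : G) (w' : C1[t]), a * y * a⁻¹ = t * w' → π w' ≠ π w) : ∑ θ ∈ B0 G, θ (t * w)⁻¹ * θ y = 0 := by
  rw [H.sec w hw]
  refine Finset.sum_eq_zero fun a _ => if_neg ?_
  rintro ⟨o, ho, e⟩
  refine h a (w * o) ?_ (by rw [map_mul, show π o = 1 from ho, mul_one])
  rw [Subgroup.coe_mul, show (o : G) = _ from e]; group

theorem Md.const (H : Md t π) {w w' : C1[t]} (hw : Odd (orderOf w)) (e : π w = π w') {χ : G → ℂ}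
    (hχ : χ ∈ B0 G) : χ (t * w) = χ (t * w') := by
  classical
  have hw' : Odd (orderOf w') := by rwa [← odd_map H.odd, ← e, odd_map H.odd]
  have := eq_zero_of_sum_B0 (fun θ => θ (t * w)⁻¹ - θ (t * w')⁻¹) (fun y => by
    simp only [sub_mul, Finset.sum_sub_distrib]
    rw [H.sec w hw, H.sec w' hw', sub_eq_zero]
    refine Finset.sum_congr rfl fun a _ => ?_
    have m : ((w'⁻¹ * w : C1[t]) : G) ∈ π.ker.map C1[t].subtype :=
      ⟨w'⁻¹ * w, by simp [e], rfl⟩
    simp only [eO]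
    rw [← Subgroup.mul_mem_cancel_left _ m]
    simp [mul_assoc]) hχ
  have c := (B0_irr hχ).isCharacter
  rw [sub_eq_zero, c.apply_inv, c.apply_inv] at this
  exact star_injective this

theorem Md.val (H : Md t π) (w w' : C1[t]) (hw : Odd (orderOf w)) (hw' : Odd (orderOf w')) :
    ∑ θ ∈ B0 G, θ (t * w)⁻¹ * θ (t * w') = Nat.card {m : M // m * π w' * m⁻¹ = π w} := by
  classical
  have hc : Nat.card (π.ker.map C1[t].subtype) = Nat.card π.ker :=
    Subgroup.card_map_of_injective (Subgroup.subtype_injective _)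
  have h0 := card_ne_zero_complex π.ker
  rw [H.sec w hw, natCard_subtype_eq_sum_ite, ← mul_right_inj' h0, ← sum_comp_surjective π H.surj,
    Finset.mul_sum, ← Finset.sum_subset (Finset.subset_univ (Finset.univ.filter (· ∈ C1[t]))),
    Finset.sum_subtype (p := (· ∈ C1[t])) _ (fun g => by simp)]
  · refine Finset.sum_congr rfl fun a _ => ?_
    have : (t * w)⁻¹ * a * (t * w') * (a : G)⁻¹ = (w⁻¹ * (a * w' * a⁻¹) : C1[t]) := by
      simp only [Subgroup.coe_mul, Subgroup.coe_inv, mul_inv_rev, mul_assoc]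
      rw [← mul_assoc (a : G), c1c a]; group
    rw [this, eO, hc]
    have : ((w⁻¹ * (a * w' * a⁻¹) : C1[t]) : G) ∈ π.ker.map C1[t].subtype ↔ π a * π w' * (π a)⁻¹ = π w := by
      rw [show ((w⁻¹ * (a * w' * a⁻¹) : C1[t]) : G) = C1[t].subtype (w⁻¹ * (a * w' * a⁻¹)) from rfl,
        Subgroup.mem_map_iff_mem (Subgroup.subtype_injective _), MonoidHom.mem_ker]
      rw [map_mul, map_mul, map_mul, map_inv, map_inv, inv_mul_eq_one, eq_comm]
    simp only [this]
    split_ifs
    exacts [mul_inv_cancel₀ h0, mul_zero _]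
  · intro a _ ha
    rw [eO, if_neg, mul_zero]
    rintro ⟨o, ho, e⟩
    refine ha (Finset.mem_filter.2 ⟨Finset.mem_univ _, Subgroup.mem_centralizer_singleton_iff.2 ?_⟩)
    have e1 : a * (t * w') * a⁻¹ = t * (w * o : C1[t]) := by
      rw [Subgroup.coe_mul, show (o : G) = _ from e]; group
    have e2 := congrArg (constt {2}) e1
    rw [constt_conj, constt_two_mul' H.two (c1c w') (by rwa [Subgroup.orderOf_coe]),
      constt_two_mul' H.two (c1c _) (by
        rwa [Subgroup.orderOf_coe, ← odd_map H.odd, map_mul, show π o = 1 from ho, mul_one, odd_map H.odd])] at e2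
    exact mul_inv_eq_iff_eq_mul.1 e2

theorem one_of_two (hM : IsPGroup 2 M) (ψ : M → ℂ) (h : IsIrrCharacter M ψ) : ψ ∈ B0 M := by
  classical
  refine mem_B0.2 ⟨h, 1, odd_one, ?_⟩
  rw [omega, Finset.sum_eq_single 1]
  · simp [oddInd, h.apply_one_ne_zero]
  · intro g _ hg
    obtain ⟨k, hk⟩ := IsPGroup.iff_orderOf.1 hM g
    rw [oddInd, if_neg, zero_mul]
    rcases k with _ | k
    · exact absurd (orderOf_eq_one_iff.1 hk) hg
    · rw [hk, pow_succ]; simp
  · simp

end Cfsg.Agent.LY
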